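import Cfsg.Agent.H434.L34.Qm

/-!
# S5917, type D: `ρ(z)` fixes the weight vectors (helper434)
-/

set_option autoImplicit false
set_option linter.unusedSectionVars false

namespace Cfsg.Agent.H434.L34

open Module

/-- triality data with a quaternion group -/
structure TQ (k A B C : Type*) [Field k] [AddCommGroup A] [AddCommGroup B] [AddCommGroup C]
    [Module k A] [Module k B] [Module k C] extends Tri k A B C where
  ia : A →ₗ[k] A
  ja : A →ₗ[k] A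
  za : A →ₗ[k] A
  ib : B →ₗ[k] B
  jb : B →ₗ[k] B
  zb : B →ₗ[k] B
  ic : C →ₗ[k] C
  jc : C →ₗ[k] C
  zc : C →ₗ[k] C
  qda : Qd ia ja za
  qdb : Qd ib jb zb
  qdc : Qd ic jc zc
  iab : ∀ x y, ab (ia x) (ib y) = ic (ab x y)
  ibc : ∀ y c, bc (ib y) (ic c) = ia (bc y c)
  ica : ∀ c x, ca (ic c) (ia x) = ib (ca c x)
  jab : ∀ x y, ab (ja x) (jb y) = jc (ab x y)
  jbc : ∀ y c, bc (jb y) (jc c) = ja (bc y c)
  jca : ∀ c x, ca (jc c) (ja x) = jb (ca c x)
  fia : ∀ x y, fa (ia x) (ia y) = fa x y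
  fib : ∀ x y, fb (ib x) (ib y) = fb x y
  fic : ∀ x y, fc (ic x) (ic y) = fc x y
  fja : ∀ x y, fa (ja x) (ja y) = fa x y
  fjb : ∀ x y, fb (jb x) (jb y) = fb x y
  fjc : ∀ x y, fc (jc x) (jc y) = fc x y

section
variable {k A B C : Type*} [Field k] [CharP k 2] [AddCommGroup A] [AddCommGroup B] [AddCommGroup C]
    [Module k A] [Module k B] [Module k C]

/-- rotation -/
def TQ.rot (T : TQ k A B C) : TQ k B C A where
  toTri := T.toTri.rot
  ia := T.ib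
  ja := T.jb
  za := T.zb
  ib := T.ic
  jb := T.jc
  zb := T.zc
  ic := T.ia
  jc := T.ja
  zc := T.za
  qda := T.qdb
  qdb := T.qdc
  qdc := T.qda
  iab := T.ibc
  ibc := T.ica
  ica := T.iab
  jab := T.jbc
  jbc := T.jca
  jca := T.jab
  fia := T.fib
  fib := T.fic
  fic := T.fia
  fja := T.fjb
  fjb := T.fjc
  fjc := T.fja

/-- the relations of the weight vector `v + s + c` -/
structure Sol (T : TQ k A B C) (v : A) (s : B) (c : C) : Prop where
  ab0 : T.ab v s = 0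
  ab1 : T.ab v (T.ib s) = 0
  ab2 : T.ab v (T.jb s) = 0
  ab3 : T.ab v (T.ib (T.jb s)) = 0
  bc0 : T.bc s c = 0
  bc1 : T.bc s (T.ic c) = 0
  bc2 : T.bc s (T.jc c) = 0
  bc3 : T.bc s (T.ic (T.jc c)) = 0
  ca0 : T.ca c v = 0
  ca1 : T.ca c (T.ia v) = 0
  ca2 : T.ca c (T.ja v) = 0
  ca3 : T.ca c (T.ia (T.ja v)) = 0
  oa1 : T.fa v (T.ia v) = 0
  oa2 : T.fa v (T.ja v) = 0
  oa3 : T.fa v (T.ia (T.ja v)) = 0
  oa4 : T.fa v (T.za v) = 0
  ob1 : T.fb s (T.ib s) = 0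
  ob2 : T.fb s (T.jb s) = 0
  ob3 : T.fb s (T.ib (T.jb s)) = 0
  ob4 : T.fb s (T.zb s) = 0
  oc1 : T.fc c (T.ic c) = 0
  oc2 : T.fc c (T.jc c) = 0
  oc3 : T.fc c (T.ic (T.jc c)) = 0
  oc4 : T.fc c (T.zc c) = 0
  wa : ∀ y, (T.fa (T.za v) y • v + T.fa v y • T.za v) + T.bc s (T.ab y (T.zb s)) + T.bc (T.ca (T.zc c) y) c = 0
  wb : ∀ y, (T.fb (T.zb s) y • s + T.fb s y • T.zb s) + T.ca c (T.bc y (T.zc c)) + T.ca (T.ab (T.za v) y) v = 0
  wc : ∀ y, (T.fc (T.zc c) y • c + T.fc c y • T.zc c) + T.ab v (T.ca y (T.za v)) + T.ab (T.bc (T.zb s) y) s = 0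

theorem Sol.rot {T : TQ k A B C} {v : A} {s : B} {c : C} (h : Sol T v s c) : Sol T.rot s c v where
  ab0 := h.bc0
  ab1 := h.bc1
  ab2 := h.bc2
  ab3 := h.bc3
  bc0 := h.ca0
  bc1 := h.ca1
  bc2 := h.ca2
  bc3 := h.ca3
  ca0 := h.ab0
  ca1 := h.ab1
  ca2 := h.ab2
  ca3 := h.ab3
  oa1 := h.ob1
  oa2 := h.ob2
  oa3 := h.ob3
  oa4 := h.ob4
  ob1 := h.oc1
  ob2 := h.oc2
  ob3 := h.oc3
  ob4 := h.oc4
  oc1 := h.oa1
  oc2 := h.oa2
  oc3 := h.oa3
  oc4 := h.oa4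
  wa := h.wb
  wb := h.wc
  wc := h.wa

section Orbit
variable {V : Type*} [AddCommGroup V] [Module k V] {I J Z : V →ₗ[k] V}

theorem Qs_gen (I J Z : V →ₗ[k] V) (s : V) {P : V → Prop} (h0 : P 0) (ha : ∀ x y, P x → P y → P (x + y))
    (hs : ∀ (a : k) x, P x → P (a • x)) (h1 : P s) (h2 : P (I s)) (h3 : P (J s)) (h4 : P (I (J s))) (h5 : P (Z s))
    (h6 : P (Z (I s))) (h7 : P (Z (J s))) (h8 : P (Z (I (J s)))) : ∀ x ∈ Qs I J Z s, P x := by
  intro x hx
  refine Submodule.span_induction ?_ h0 (fun x y _ _ => ha x y) (fun a x _ => hs a x) hx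
  intro y hy
  simp only [Set.mem_insert_iff, Set.mem_singleton_iff] at hy
  rcases hy with rfl | rfl | rfl | rfl | rfl | rfl | rfl | rfl <;> assumption

theorem Qs_mem (I J Z : V →ₗ[k] V) (s : V) : s ∈ Qs I J Z s ∧ I s ∈ Qs I J Z s ∧ J s ∈ Qs I J Z s ∧
    I (J s) ∈ Qs I J Z s ∧ Z s ∈ Qs I J Z s ∧ Z (I s) ∈ Qs I J Z s ∧ Z (J s) ∈ Qs I J Z s ∧
    Z (I (J s)) ∈ Qs I J Z s := by
  refine ⟨?_, ?_, ?_, ?_, ?_, ?_, ?_, ?_⟩ <;> exact Submodule.subset_span (by simp)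

theorem Qd.stab_i (h : Qd I J Z) (s : V) : ∀ x ∈ Qs I J Z s, I x ∈ Qs I J Z s := by
  obtain ⟨m1, m2, m3, m4, m5, m6, m7, m8⟩ := Qs_mem I J Z s
  refine Qs_gen I J Z s (by simp) (fun x y hx hy => by rw [map_add]; exact Submodule.add_mem _ hx hy)
    (fun a x hx => by rw [map_smul]; exact Submodule.smul_mem _ _ hx) m2 ?_ m4 ?_ ?_ ?_ ?_ ?_
  · rw [h.ii]; exact m5
  · rw [h.ii]; exact m7
  · rw [h.iz]; exact m6
  · rw [h.iz, h.ii, h.zz]; exact m1
  · rw [h.iz]; exact m8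
  · rw [h.iz, h.ii, h.zz]; exact m3

theorem Qd.stab_j (h : Qd I J Z) (s : V) : ∀ x ∈ Qs I J Z s, J x ∈ Qs I J Z s := by
  obtain ⟨m1, m2, m3, m4, m5, m6, m7, m8⟩ := Qs_mem I J Z s
  refine Qs_gen I J Z s (by simp) (fun x y hx hy => by rw [map_add]; exact Submodule.add_mem _ hx hy)
    (fun a x hx => by rw [map_smul]; exact Submodule.smul_mem _ _ hx) m3 ?_ ?_ ?_ ?_ ?_ ?_ ?_
  · rw [h.ji]; exact m8
  · rw [h.jj]; exact m5
  · rw [h.ji, h.jj, h.iz, h.zz]; exact m2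
  · rw [h.jz]; exact m7
  · rw [h.jz, h.ji, h.zz]; exact m4
  · rw [h.jz, h.jj, h.zz]; exact m1
  · rw [h.jz, h.ji, h.jj, h.iz, h.zz]; exact m6

theorem Qd.stab_z (h : Qd I J Z) (s : V) : ∀ x ∈ Qs I J Z s, Z x ∈ Qs I J Z s := by
  intro x hx
  rw [← h.ii]
  exact h.stab_i s _ (h.stab_i s _ hx)

end Orbit

theorem TQ.zab (T : TQ k A B C) (x : A) (y : B) : T.ab (T.za x) (T.zb y) = T.zc (T.ab x y) := by
  rw [← T.qda.ii, ← T.qdb.ii, T.iab, T.iab, T.qdc.ii]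

theorem Tri.fa_self (T : Tri k A B C) (x : A) : T.fa x x = 0 := by
  have h0 : T.qa 0 = 0 := by
    have := T.qa_add 0 0
    simp only [add_zero, map_zero, LinearMap.zero_apply] at this
    linear_combination -this
  have h1 := T.qa_add x x
  rw [two_smul_zero' (k := k), h0] at h1
  have h2 : T.qa x + T.qa x = 0 := CharTwo.add_self_eq_zero _
  linear_combination -h1 - h2

/-- the orbit of `v` spans a totally isotropic subspace -/
theorem TQ.iso (T : TQ k A B C) {v : A} (h1 : T.fa v (T.ia v) = 0) (h2 : T.fa v (T.ja v) = 0)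
    (h3 : T.fa v (T.ia (T.ja v)) = 0) (h4 : T.fa v (T.za v) = 0) :
    ∀ x ∈ Qs T.ia T.ja T.za v, ∀ y ∈ Qs T.ia T.ja T.za v, T.fa x y = 0 := by
  have sy := T.toTri.fa_symm
  have fz : ∀ x y, T.fa (T.za x) (T.za y) = T.fa x y := fun x y => by rw [← T.qda.ii, ← T.qda.ii, T.fia, T.fia]
  have e1 : T.fa v (T.za (T.ia v)) = 0 := by
    rw [← T.fia, T.qda.iz, T.qda.ii, T.qda.zz, sy, h1]
  have e2 : T.fa v (T.za (T.ja v)) = 0 := by
    rw [← T.fja, T.qda.jz, T.qda.jj, T.qda.zz, sy, h2]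
  have e3 : T.fa v (T.za (T.ia (T.ja v))) = 0 := by
    rw [← T.fja, T.qda.jz, T.qda.ji, T.qda.jj, T.qda.zz, T.qda.iz, ← T.fia, T.qda.iz, T.qda.ii, T.qda.zz, sy, h3]
  have hv : ∀ y ∈ Qs T.ia T.ja T.za v, T.fa v y = 0 :=
    Qs_gen _ _ _ _ (by simp) (fun x y hx hy => by rw [map_add, hx, hy, add_zero])
      (fun a x hx => by rw [map_smul, hx, smul_zero]) (T.toTri.fa_self v) h1 h2 h3 h4 e1 e2 e3
  have pi : ∀ x, (∀ y ∈ Qs T.ia T.ja T.za v, T.fa x y = 0) → ∀ y ∈ Qs T.ia T.ja T.za v, T.fa (T.ia x) y = 0 := by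
    intro x hx y hy
    rw [← T.fia, T.qda.ii, ← fz, T.qda.zz]
    exact hx _ (T.qda.stab_z _ _ (T.qda.stab_i _ _ hy))
  have pj : ∀ x, (∀ y ∈ Qs T.ia T.ja T.za v, T.fa x y = 0) → ∀ y ∈ Qs T.ia T.ja T.za v, T.fa (T.ja x) y = 0 := by
    intro x hx y hy
    rw [← T.fja, T.qda.jj, ← fz, T.qda.zz]
    exact hx _ (T.qda.stab_z _ _ (T.qda.stab_j _ _ hy))
  have pz : ∀ x, (∀ y ∈ Qs T.ia T.ja T.za v, T.fa x y = 0) → ∀ y ∈ Qs T.ia T.ja T.za v, T.fa (T.za x) y = 0 := by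
    intro x hx y hy
    rw [← fz, T.qda.zz]
    exact hx _ (T.qda.stab_z _ _ hy)
  have p2 := pi v hv
  have p3 := pj v hv
  have p4 := pi _ p3
  have p5 := pz v hv
  have p6 := pz _ p2
  have p7 := pz _ p3
  have p8 := pz _ p4
  exact Qs_gen T.ia T.ja T.za v (P := fun x => ∀ y ∈ Qs T.ia T.ja T.za v, T.fa x y = 0) (by simp)
    (fun x y hx hy w hw => by rw [map_add, LinearMap.add_apply, hx w hw, hy w hw, add_zero])
    (fun a x hx w hw => by rw [map_smul, LinearMap.smul_apply, hx w hw, smul_zero]) hv p2 p3 p4 p5 p6 p7 p8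

variable [FiniteDimensional k A] [FiniteDimensional k B] [FiniteDimensional k C]

/-- Lemma Q for `v` -/
theorem TQ.q_main (T : TQ k A B C) (hA : finrank k A = 8) {v : A} (hv : T.za v ≠ v)
    (h1 : T.fa v (T.ia v) = 0) (h2 : T.fa v (T.ja v) = 0)
    (h3 : T.fa v (T.ia (T.ja v)) = 0) (h4 : T.fa v (T.za v) = 0) :
    T.ia (T.za v + v) = T.za v + v ∧ T.ja (T.za v + v) = T.za v + v ∧
    LinearIndependent k ![v, T.za v + v, T.ia v + v] ∧
    (T.za v + v ∈ Submodule.span k {v, T.ia v, T.ja v, T.ia (T.ja v)} ∨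
      T.za v + v ∈ Submodule.span k {v, T.za (T.ia v), T.za (T.ja v), T.za (T.ia (T.ja v))}) := by
  refine T.qda.main hv ?_
  have := T.toTri.finrank_le _ (T.iso h1 h2 h3 h4)
  omega

/-- total annihilation of two nontrivial orbits is impossible -/
theorem TQ.k2 (T : TQ k A B C) (hA : finrank k A = 8) (hB : finrank k B = 8) (hC : finrank k C = 8) {v : A} {s : B}
    (hv : LinearIndependent k ![v, T.za v + v, T.ia v + v]) (hs : LinearIndependent k ![s, T.zb s + s, T.ib s + s])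
    (h : ∀ x ∈ Qs T.ia T.ja T.za v, ∀ y ∈ Qs T.ib T.jb T.zb s, T.ab x y = 0) : False := by
  obtain ⟨m1, m2, -, -, m5, -, -, -⟩ := Qs_mem T.ia T.ja T.za v
  obtain ⟨n1, -, -, -, n5, -, -, -⟩ := Qs_mem T.ib T.jb T.zb s
  have hmem : ∀ i, (![v, T.za v + v, T.ia v + v] : Fin 3 → A) i ∈ Qs T.ia T.ja T.za v := by
    intro i
    fin_cases i
    · exact m1
    · exact Submodule.add_mem _ m5 m1
    · exact Submodule.add_mem _ m2 m1
  have hs2 : LinearIndependent k ![s, T.zb s + s] := by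
    have := hs.comp (Fin.castSucc) (Fin.castSucc_injective 2)
    convert this using 1
    funext i
    fin_cases i <;> rfl
  exact T.toTri.t6 hA hB hC hv hs2 (fun i => h _ (hmem i) _ n1) (fun i => h _ (hmem i) _ (Submodule.add_mem _ n5 n1))

theorem TQ.k3 (T : TQ k A B C) {v : A} {s : B} (h : ∀ y ∈ Qs T.ib T.jb T.zb s, T.ab v y = 0) :
    ∀ x ∈ Qs T.ia T.ja T.za v, ∀ y ∈ Qs T.ib T.jb T.zb s, T.ab x y = 0 := by
  have pz : ∀ x, (∀ y ∈ Qs T.ib T.jb T.zb s, T.ab x y = 0) → ∀ y ∈ Qs T.ib T.jb T.zb s, T.ab (T.za x) y = 0 := by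
    intro x hx y hy
    rw [← T.qdb.zz y, T.zab, hx _ (T.qdb.stab_z _ _ hy), map_zero]
  have pi : ∀ x, (∀ y ∈ Qs T.ib T.jb T.zb s, T.ab x y = 0) → ∀ y ∈ Qs T.ib T.jb T.zb s, T.ab (T.ia x) y = 0 := by
    intro x hx y hy
    rw [← T.qdb.zz y, ← T.qdb.ii (T.zb y), T.iab, hx _ (T.qdb.stab_i _ _ (T.qdb.stab_z _ _ hy)), map_zero]
  have pj : ∀ x, (∀ y ∈ Qs T.ib T.jb T.zb s, T.ab x y = 0) → ∀ y ∈ Qs T.ib T.jb T.zb s, T.ab (T.ja x) y = 0 := by
    intro x hx y hy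
    rw [← T.qdb.zz y, ← T.qdb.jj (T.zb y), T.jab, hx _ (T.qdb.stab_j _ _ (T.qdb.stab_z _ _ hy)), map_zero]
  have p2 := pi v h
  have p3 := pj v h
  have p4 := pi _ p3
  exact Qs_gen T.ia T.ja T.za v (P := fun x => ∀ y ∈ Qs T.ib T.jb T.zb s, T.ab x y = 0) (by simp)
    (fun x y hx hy w hw => by rw [map_add, LinearMap.add_apply, hx w hw, hy w hw, add_zero])
    (fun a x hx w hw => by rw [map_smul, LinearMap.smul_apply, hx w hw, smul_zero]) h p2 p3 p4 (pz _ h) (pz _ p2)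
    (pz _ p3) (pz _ p4)

theorem TQ.k3' (T : TQ k A B C) {v : A} {s : B} (h : ∀ x ∈ Qs T.ia T.ja T.za v, T.ab x s = 0) :
    ∀ x ∈ Qs T.ia T.ja T.za v, ∀ y ∈ Qs T.ib T.jb T.zb s, T.ab x y = 0 := by
  have pz : ∀ y, (∀ x ∈ Qs T.ia T.ja T.za v, T.ab x y = 0) → ∀ x ∈ Qs T.ia T.ja T.za v, T.ab x (T.zb y) = 0 := by
    intro y hy x hx
    rw [← T.qda.zz x, T.zab, hy _ (T.qda.stab_z _ _ hx), map_zero]
  have pi : ∀ y, (∀ x ∈ Qs T.ia T.ja T.za v, T.ab x y = 0) → ∀ x ∈ Qs T.ia T.ja T.za v, T.ab x (T.ib y) = 0 := by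
    intro y hy x hx
    rw [← T.qda.zz x, ← T.qda.ii (T.za x), T.iab, hy _ (T.qda.stab_i _ _ (T.qda.stab_z _ _ hx)), map_zero]
  have pj : ∀ y, (∀ x ∈ Qs T.ia T.ja T.za v, T.ab x y = 0) → ∀ x ∈ Qs T.ia T.ja T.za v, T.ab x (T.jb y) = 0 := by
    intro y hy x hx
    rw [← T.qda.zz x, ← T.qda.jj (T.za x), T.jab, hy _ (T.qda.stab_j _ _ (T.qda.stab_z _ _ hx)), map_zero]
  have p2 := pi s h
  have p3 := pj s h
  have p4 := pi _ p3
  have := Qs_gen T.ib T.jb T.zb s (P := fun y => ∀ x ∈ Qs T.ia T.ja T.za v, T.ab x y = 0) (by simp)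
    (fun x y hx hy w hw => by rw [map_add, hx w hw, hy w hw, add_zero])
    (fun a x hx w hw => by rw [map_smul, hx w hw, smul_zero]) h p2 p3 p4 (pz _ h) (pz _ p2)
    (pz _ p3) (pz _ p4)
  exact fun x hx y hy => this y hy x hx

/-- from `v · (B s) = 0` and `v · d = 0` -/
theorem TQ.k4 (T : TQ k A B C) {v : A} {s : B} (hi : T.ib (T.zb s + s) = T.zb s + s) (hj : T.jb (T.zb s + s) = T.zb s + s)
    (h0 : T.ab v s = 0) (h1 : T.ab v (T.ib s) = 0) (h2 : T.ab v (T.jb s) = 0) (h3 : T.ab v (T.ib (T.jb s)) = 0)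
    (hd : T.ab v (T.zb s + s) = 0) : ∀ x ∈ Qs T.ia T.ja T.za v, ∀ y ∈ Qs T.ib T.jb T.zb s, T.ab x y = 0 := by
  have e0 : T.ab v (T.zb s) = 0 := by
    rw [map_add, h0, add_zero] at hd
    exact hd
  have neg : ∀ x : B, -x = x := fun x => by rw [neg_eq_iff_add_eq_zero]; exact two_smul_zero' (k := k) x
  have z1 : T.zb (T.ib s) = T.ib s + (T.zb s + s) := by
    rw [map_add, T.qdb.iz] at hi
    rw [← hi]
    have := two_smul_zero' (k := k) (T.ib s)
    calc T.zb (T.ib s) = T.zb (T.ib s) + (T.ib s + T.ib s) := by rw [this, add_zero]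
      _ = _ := by abel
  have z2 : T.zb (T.jb s) = T.jb s + (T.zb s + s) := by
    rw [map_add, T.qdb.jz] at hj
    rw [← hj]
    have := two_smul_zero' (k := k) (T.jb s)
    calc T.zb (T.jb s) = T.zb (T.jb s) + (T.jb s + T.jb s) := by rw [this, add_zero]
      _ = _ := by abel
  have z3 : T.zb (T.ib (T.jb s)) = T.ib (T.jb s) + (T.zb s + s) := by
    rw [← T.qdb.iz, z2, map_add, hi]
  refine T.k3 (Qs_gen _ _ _ _ (by simp) (fun x y hx hy => by rw [map_add, hx, hy, add_zero])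
      (fun a x hx => by rw [map_smul, hx, smul_zero]) h0 h1 h2 h3 e0 ?_ ?_ ?_)
  · rw [z1, map_add, h1, hd, add_zero]
  · rw [z2, map_add, h2, hd, add_zero]
  · rw [z3, map_add, h3, hd, add_zero]

/-- from `(B' v) · s = 0` and `d · s = 0` -/
theorem TQ.k4' (T : TQ k A B C) {v : A} {s : B} (hi : T.ia (T.za v + v) = T.za v + v) (hj : T.ja (T.za v + v) = T.za v + v)
    (h0 : T.ab v s = 0) (h1 : T.ab v (T.ib s) = 0) (h2 : T.ab v (T.jb s) = 0) (h3 : T.ab v (T.ib (T.jb s)) = 0)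
    (hd : T.za v + v ∈ Submodule.span k {v, T.za (T.ia v), T.za (T.ja v), T.za (T.ia (T.ja v))}) :
    ∀ x ∈ Qs T.ia T.ja T.za v, ∀ y ∈ Qs T.ib T.jb T.zb s, T.ab x y = 0 := by
  have f1 : T.ab (T.za (T.ia v)) s = 0 := by
    rw [← T.qdb.zz s, T.zab, ← T.qdb.ii s, T.iab, h1, map_zero, map_zero]
  have f2 : T.ab (T.za (T.ja v)) s = 0 := by
    rw [← T.qdb.zz s, T.zab, ← T.qdb.jj s, T.jab, h2, map_zero, map_zero]
  have f3 : T.ab (T.za (T.ia (T.ja v))) s = 0 := by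
    have e : s = T.zb (T.ib (T.jb (T.ib (T.jb s)))) := by
      rw [T.qdb.ji, T.qdb.jj, T.qdb.iz, T.qdb.zz, T.qdb.ii, T.qdb.zz]
    rw [e, T.zab, T.iab, T.jab, h3, map_zero, map_zero, map_zero]
  have hd0 : T.ab (T.za v + v) s = 0 := by
    refine Submodule.span_induction (p := fun x _ => T.ab x s = 0) ?_ (by simp) ?_ ?_ hd
    · intro y hy
      simp only [Set.mem_insert_iff, Set.mem_singleton_iff] at hy
      rcases hy with rfl | rfl | rfl | rfl <;> assumption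
    · intro x y _ _ hx hy
      rw [map_add, LinearMap.add_apply, hx, hy, add_zero]
    · intro a x _ hx
      rw [map_smul, LinearMap.smul_apply, hx, smul_zero]
  have e0 : T.ab (T.za v) s = 0 := by
    rw [map_add, LinearMap.add_apply, h0, add_zero] at hd0
    exact hd0
  have z1 : T.ia v = T.za (T.ia v) + (T.za v + v) := by
    rw [map_add, T.qda.iz] at hi
    rw [← hi]
    have := two_smul_zero' (k := k) (T.za (T.ia v))
    calc T.ia v = (T.za (T.ia v) + T.za (T.ia v)) + T.ia v := by rw [this, zero_add]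
      _ = _ := by abel
  have z2 : T.ja v = T.za (T.ja v) + (T.za v + v) := by
    rw [map_add, T.qda.jz] at hj
    rw [← hj]
    have := two_smul_zero' (k := k) (T.za (T.ja v))
    calc T.ja v = (T.za (T.ja v) + T.za (T.ja v)) + T.ja v := by rw [this, zero_add]
      _ = _ := by abel
  have z3 : T.ia (T.ja v) = T.za (T.ia (T.ja v)) + (T.za v + v) := by
    conv_lhs => rw [z2]
    rw [map_add, hi, T.qda.iz]
  refine T.k3' (Qs_gen _ _ _ _ (by simp) (fun x y hx hy => by rw [map_add, LinearMap.add_apply, hx, hy, add_zero])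
      (fun a x hx => by rw [map_smul, LinearMap.smul_apply, hx, smul_zero]) h0 ?_ ?_ ?_ e0 f1 f2 f3)
  · rw [z1, map_add, LinearMap.add_apply, f1, hd0, add_zero]
  · rw [z2, map_add, LinearMap.add_apply, f2, hd0, add_zero]
  · rw [z3, map_add, LinearMap.add_apply, f3, hd0, add_zero]

/-- a nontrivial middle vector is annihilated by one of its neighbours -/
theorem Sol.c1 {T : TQ k A B C} {v : A} {s : B} {c : C} (h : Sol T v s c) (hB : finrank k B = 8) (hs : T.zb s ≠ s) :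
    (∀ x ∈ Qs T.ia T.ja T.za v, ∀ y ∈ Qs T.ib T.jb T.zb s, T.ab x y = 0) ∨
    (∀ x ∈ Qs T.ib T.jb T.zb s, ∀ y ∈ Qs T.ic T.jc T.zc c, T.bc x y = 0) := by
  obtain ⟨hi, hj, -, hd⟩ := T.rot.q_main hB hs h.ob1 h.ob2 h.ob3 h.ob4
  rcases hd with hd | hd
  · left
    refine T.k4 hi hj h.ab0 h.ab1 h.ab2 h.ab3 ?_
    refine Submodule.span_induction (p := fun x _ => T.ab v x = 0) ?_ (by simp) ?_ ?_ hd
    · intro y hy
      simp only [Set.mem_insert_iff, Set.mem_singleton_iff] at hy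
      rcases hy with rfl | rfl | rfl | rfl
      · exact h.ab0
      · exact h.ab1
      · exact h.ab2
      · exact h.ab3
    · intro x y _ _ hx hy
      rw [map_add, hx, hy, add_zero]
    · intro a x _ hx
      rw [map_smul, hx, smul_zero]
  · right
    exact T.rot.k4' hi hj h.bc0 h.bc1 h.bc2 h.bc3 hd

/-- `v` and `s` are not both nontrivial when `c` is trivial -/
theorem Sol.two {T : TQ k A B C} {v : A} {s : B} {c : C} (h : Sol T v s c) (hA : finrank k A = 8) (hB : finrank k B = 8)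
    (hC : finrank k C = 8) (hv : T.za v ≠ v) (hs : T.zb s ≠ s) (hc : T.zc c = c) : False := by
  have hs0 : s ≠ 0 := by
    rintro rfl
    exact hs (map_zero _)
  have hv0 : v ≠ 0 := by
    rintro rfl
    exact hv (map_zero _)
  have qc : T.qc c = 0 := by
    have := T.c_b c s
    rw [h.bc0, map_zero] at this
    exact (smul_eq_zero.1 this.symm).resolve_right hs0
  have qa : T.qa v = 0 := by
    have := T.a_b v s
    rw [h.ab0, map_zero, LinearMap.zero_apply] at this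
    exact (smul_eq_zero.1 this.symm).resolve_right hs0
  obtain ⟨hi, hj, hli, -⟩ := T.rot.q_main hB hs h.ob1 h.ob2 h.ob3 h.ob4
  obtain ⟨-, -, hlv, -⟩ := T.q_main hA hv h.oa1 h.oa2 h.oa3 h.oa4
  obtain ⟨y, hy⟩ : ∃ y, T.fb s y ≠ 0 := by
    by_contra hcon
    push Not at hcon
    exact hs0 (T.fb_nd s hcon)
  have e1 := h.wb y
  rw [hc, T.c_b, qc, zero_smul, add_zero] at e1
  have e2 := congrArg (T.ab v) e1
  rw [map_add, map_add, map_smul, map_smul, h.ab0, smul_zero, zero_add, T.a_c, qa, zero_smul, add_zero, map_zero] at e2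
  have e3 := (smul_eq_zero.1 e2).resolve_left hy
  refine T.k2 hA hB hC hlv hli (T.k4 hi hj h.ab0 h.ab1 h.ab2 h.ab3 ?_)
  rw [map_add, e3, h.ab0, add_zero]

/-- `s` is not the only nontrivial one -/
theorem Sol.one {T : TQ k A B C} {v : A} {s : B} {c : C} (h : Sol T v s c) (hv : T.za v = v) (hs : T.zb s ≠ s)
    (hc : T.zc c = c) : False := by
  have hs0 : s ≠ 0 := by
    rintro rfl
    exact hs (map_zero _)
  have qc : T.qc c = 0 := by
    have := T.c_b c s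
    rw [h.bc0, map_zero] at this
    exact (smul_eq_zero.1 this.symm).resolve_right hs0
  have qa : T.qa v = 0 := by
    have := T.a_b v s
    rw [h.ab0, map_zero, LinearMap.zero_apply] at this
    exact (smul_eq_zero.1 this.symm).resolve_right hs0
  obtain ⟨y, hy⟩ : ∃ y, T.fb s y ≠ 0 := by
    by_contra hcon
    push Not at hcon
    exact hs0 (T.fb_nd s hcon)
  have e1 := h.wb y
  rw [hc, hv, T.c_b, T.a_b, qc, qa, zero_smul, add_zero, add_zero] at e1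
  -- `Z s = λ s`
  obtain ⟨l, hl⟩ : ∃ l : k, T.zb s = l • s := by
    refine ⟨-((T.fb s y)⁻¹ * T.fb (T.zb s) y), ?_⟩
    have e2 := congrArg (fun x => (T.fb s y)⁻¹ • x) e1
    simp only [smul_add, smul_smul, smul_zero, inv_mul_cancel₀ hy, one_smul] at e2
    rw [add_comm] at e2
    rw [neg_smul]
    exact eq_neg_of_add_eq_zero_left e2
  have e3 := T.qdb.zz s
  rw [hl, map_smul, hl, smul_smul] at e3
  have e4 : (l * l - 1) • s = 0 := by rw [sub_smul, e3, one_smul, sub_self]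
  have e5 := (smul_eq_zero.1 e4).resolve_right hs0
  have e6 : (l - 1) * (l - 1) = 0 := by
    have h2 : (2 : k) = 0 := CharTwo.two_eq_zero
    linear_combination e5 - (l - 1) * h2
  have e7 : l = 1 := by
    have := mul_self_eq_zero.1 e6
    linear_combination this
  apply hs
  rw [hl, e7, one_smul]

/-- **`ρ(z)` fixes `v`, `s`, `c`** -/
theorem Sol.main {T : TQ k A B C} {v : A} {s : B} {c : C} (h : Sol T v s c) (hA : finrank k A = 8)
    (hB : finrank k B = 8) (hC : finrank k C = 8) : T.za v = v ∧ T.zb s = s ∧ T.zc c = c := by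
  by_cases hv : T.za v = v
  · by_cases hs : T.zb s = s
    · by_cases hc : T.zc c = c
      · exact ⟨hv, hs, hc⟩
      · exact (h.rot.one hs hc hv).elim
    · by_cases hc : T.zc c = c
      · exact (h.one hv hs hc).elim
      · exact (h.rot.two hB hC hA hs hc hv).elim
  · by_cases hs : T.zb s = s
    · by_cases hc : T.zc c = c
      · exact (h.rot.rot.one hc hv hs).elim
      · exact (h.rot.rot.two hC hA hB hc hv hs).elim
    · by_cases hc : T.zc c = c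
      · exact (h.two hA hB hC hv hs hc).elim
      · exfalso
        obtain ⟨-, -, hlv, -⟩ := T.q_main hA hv h.oa1 h.oa2 h.oa3 h.oa4
        obtain ⟨-, -, hls, -⟩ := T.rot.q_main hB hs h.ob1 h.ob2 h.ob3 h.ob4
        obtain ⟨-, -, hlc, -⟩ := T.rot.rot.q_main hC hc h.oc1 h.oc2 h.oc3 h.oc4
        rcases h.c1 hB hs with h1 | h1
        · exact T.k2 hA hB hC hlv hls h1
        · exact T.rot.k2 hB hC hA hls hlc h1

end

end Cfsg.Agent.H434.L34
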