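import Cfsg.Agent.H434.L34.Tri

/-!
# S5917, type D: `Q₈`-modules in characteristic 2 and the conclusion (helper434)
-/

set_option autoImplicit false

namespace Cfsg.Agent.H434.L34

open Module

section
variable {k V : Type*} [Field k] [CharP k 2] [AddCommGroup V] [Module k V]

omit [CharP k 2] in
theorem two_smul_zero' [CharP k 2] (x : V) : x + x = 0 := by
  rw [← two_smul k x, CharTwo.two_eq_zero, zero_smul]

/-- operators `I`, `J` of a quaternion group -/
structure Qd (I J Z : V →ₗ[k] V) : Prop where
  ii : ∀ x, I (I x) = Z x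
  jj : ∀ x, J (J x) = Z x
  ji : ∀ x, J (I x) = Z (I (J x))
  zz : ∀ x, Z (Z x) = x

variable {I J Z : V →ₗ[k] V}

omit [CharP k 2] in
theorem Qd.iz (h : Qd I J Z) (x : V) : I (Z x) = Z (I x) := by rw [← h.ii, h.ii]

omit [CharP k 2] in
theorem Qd.jz (h : Qd I J Z) (x : V) : J (Z x) = Z (J x) := by rw [← h.jj, h.jj]

/-- the span of the orbit -/
def Qs (I J Z : V →ₗ[k] V) (s : V) : Submodule k V :=
  Submodule.span k {s, I s, J s, I (J s), Z s, Z (I s), Z (J s), Z (I (J s))}

/-- **Lemma Q** -/
theorem Qd.main (h : Qd I J Z) {s : V} (hs : Z s ≠ s) [FiniteDimensional k V] (hd : finrank k (Qs I J Z s) ≤ 4) :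
    I (Z s + s) = Z s + s ∧ J (Z s + s) = Z s + s ∧ LinearIndependent k ![s, Z s + s, I s + s] ∧
    (Z s + s ∈ Submodule.span k {s, I s, J s, I (J s)} ∨
      Z s + s ∈ Submodule.span k {s, Z (I s), Z (J s), Z (I (J s))}) := by
  classical
  have t2 : ∀ x : V, x + x = 0 := fun x => two_smul_zero' (k := k) x
  have hneg : ∀ x : V, -x = x := fun x => by rw [neg_eq_iff_add_eq_zero]; exact t2 x
  set X : V →ₗ[k] V := I + LinearMap.id with hX
  set Y : V →ₗ[k] V := J + LinearMap.id with hY
  set D : V →ₗ[k] V := Z + LinearMap.id with hD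
  have X0 : ∀ x, X x = I x + x := fun x => rfl
  have Y0 : ∀ x, Y x = J x + x := fun x => rfl
  have D0 : ∀ x, D x = Z x + x := fun x => rfl
  have XX : ∀ x, X (X x) = D x := by
    intro x
    rw [X0, X0, D0, map_add, h.ii]
    have := t2 (I x)
    calc Z x + I x + (I x + x) = Z x + (I x + I x) + x := by abel
      _ = _ := by rw [this, add_zero]
  have YY : ∀ x, Y (Y x) = D x := by
    intro x
    rw [Y0, Y0, D0, map_add, h.jj]
    have := t2 (J x)
    calc Z x + J x + (J x + x) = Z x + (J x + J x) + x := by abel
      _ = _ := by rw [this, add_zero]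
  have DD : ∀ x, D (D x) = 0 := by
    intro x
    rw [D0, D0, map_add, h.zz]
    have := t2 (Z x)
    calc x + Z x + (Z x + x) = (x + x) + (Z x + Z x) := by abel
      _ = _ := by rw [this, t2, add_zero]
  have DX : ∀ x, D (X x) = X (D x) := by
    intro x
    rw [D0, X0, X0, D0, map_add, map_add, h.iz]
    abel
  have DY : ∀ x, D (Y x) = Y (D x) := by
    intro x
    rw [D0, Y0, Y0, D0, map_add, map_add, h.jz]
    abel
  have YX : ∀ x, Y (X x) = X (Y x) + D x + X (D x) + Y (D x) + X (Y (D x)) := by
    intro x
    have e1 : J (I x) = Z (I (J x)) := h.ji x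
    have e2 : Y (X x) = J (I x) + J x + I x + x := by
      rw [Y0, X0, map_add]; abel
    have e3 : X (Y x) = I (J x) + I x + J x + x := by
      rw [X0, Y0, map_add]; abel
    have e4 : X (Y (D x)) = Z (I (J x)) + I (J x) + Z (I x) + I x + Z (J x) + J x + Z x + x := by
      rw [X0, Y0, D0, map_add, map_add, map_add, map_add, h.jz, h.iz, h.iz]
      abel
    have e5 : X (D x) = Z (I x) + I x + Z x + x := by
      rw [X0, D0, map_add, h.iz]; abel
    have e6 : Y (D x) = Z (J x) + J x + Z x + x := by
      rw [Y0, D0, map_add, h.jz]; abel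
    rw [e2, e3, e4, e5, e6, D0, e1]
    have a1 := t2 (I (J x))
    have a2 := t2 (I x)
    have a3 := t2 (J x)
    have a4 := t2 x
    have a5 := t2 (Z (I x))
    have a6 := t2 (Z (J x))
    have a7 := t2 (Z x)
    calc Z (I (J x)) + J x + I x + x
        = Z (I (J x)) + J x + I x + x + (I (J x) + I (J x)) + (I x + I x) + (J x + J x) + (x + x) + (x + x)
          + (Z (I x) + Z (I x)) + (Z (J x) + Z (J x)) + (Z x + Z x) + (Z x + Z x) := by
          rw [a1, a2, a3, a4, a5, a6, a7]; simp
      _ = _ := by abel
  -- membership of `Q(s)`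
  set Q := Qs I J Z s with hQ
  have mQ : ∀ x ∈ ({s, I s, J s, I (J s), Z s, Z (I s), Z (J s), Z (I (J s))} : Set V), x ∈ Q :=
    fun x hx => Submodule.subset_span hx
  have ms : s ∈ Q := mQ _ (by simp)
  have mIs : I s ∈ Q := mQ _ (by simp)
  have mJs : J s ∈ Q := mQ _ (by simp)
  have mIJs : I (J s) ∈ Q := mQ _ (by simp)
  have mZs : Z s ∈ Q := mQ _ (by simp)
  have mZIs : Z (I s) ∈ Q := mQ _ (by simp)
  have mZJs : Z (J s) ∈ Q := mQ _ (by simp)
  have mZIJs : Z (I (J s)) ∈ Q := mQ _ (by simp)
  have md : D s ∈ Q := Q.add_mem mZs ms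
  have ma : X s ∈ Q := Q.add_mem mIs ms
  have mb : Y s ∈ Q := Q.add_mem mJs ms
  have me : X (Y s) ∈ Q := by
    rw [X0, Y0, map_add]
    exact Q.add_mem (Q.add_mem mIJs mIs) (Q.add_mem mJs ms)
  have mXd : X (D s) ∈ Q := by
    rw [X0, D0, map_add, h.iz]
    exact Q.add_mem (Q.add_mem mZIs mIs) (Q.add_mem mZs ms)
  have mYd : Y (D s) ∈ Q := by
    rw [Y0, D0, map_add, h.jz]
    exact Q.add_mem (Q.add_mem mZJs mJs) (Q.add_mem mZs ms)
  have hd0 : D s ≠ 0 := by
    intro h0
    apply hs
    rw [D0, add_eq_zero_iff_eq_neg, hneg] at h0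
    exact h0
  -- five vectors of `Q` are dependent
  have dep : ∀ w : Fin 5 → V, (∀ i, w i ∈ Q) → ∃ g : Fin 5 → k, ∑ i, g i • w i = 0 ∧ ∃ i, g i ≠ 0 := by
    intro w hw
    by_contra hcon
    have hli : LinearIndependent k (fun i => (⟨w i, hw i⟩ : Q)) := by
      rw [Fintype.linearIndependent_iff]
      intro g hg i
      by_contra hi
      apply hcon
      refine ⟨g, ?_, i, hi⟩
      have := congrArg Subtype.val hg
      simpa using this
    have := hli.fintype_card_le_finrank
    simp at this
    omega
  have sc0 : ∀ (c : k) (x : V), x ≠ 0 → c • x = 0 → c = 0 := fun c x hx hc => (smul_eq_zero.1 hc).resolve_right hx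
  have XDD : X (X (D s)) = 0 := by rw [XX, DD]
  have YDD : Y (Y (D s)) = 0 := by rw [YY, DD]
  have YXD : Y (X (D s)) = X (Y (D s)) := by
    rw [YX (D s), DD]; simp
  -- Step 1: `X d = 0` and `Y d = 0`
  have hXY : X (D s) = 0 ∧ Y (D s) = 0 := by
    by_cases hXd : X (D s) = 0
    · refine ⟨hXd, ?_⟩
      by_contra hYd
      -- s, b, d, Yd, a dependent
      obtain ⟨g, hg, hne⟩ := dep ![s, Y s, D s, Y (D s), X s] (by
        intro i; fin_cases i <;> assumption)
      rw [Fin.sum_univ_five] at hg
      simp only [Matrix.cons_val_zero, Matrix.cons_val_one, Matrix.cons_val_two, Matrix.cons_val_three,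
        Matrix.cons_val_four, Matrix.head_cons, Matrix.tail_cons, Matrix.cons_val] at hg
      have g1 := congrArg D hg
      simp only [map_add, map_smul, map_zero, DD, DY, DX, hXd, smul_zero, add_zero, YDD] at g1
      have g2 := congrArg Y g1
      simp only [map_add, map_smul, map_zero, YDD, smul_zero, add_zero] at g2
      have g0z := sc0 _ _ hYd g2
      rw [g0z, zero_smul, zero_add] at g1
      have g1z := sc0 _ _ hYd g1
      rw [g0z, g1z, zero_smul, zero_smul, zero_add, zero_add] at hg
      have g3 := congrArg X hg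
      simp only [map_add, map_smul, map_zero, hXd, smul_zero, zero_add, XX, ← YXD] at g3
      have g4z := sc0 _ _ hd0 g3
      rw [g4z, zero_smul, add_zero] at hg
      have g5 := congrArg Y hg
      simp only [map_add, map_smul, map_zero, YDD, smul_zero, add_zero] at g5
      have g2z := sc0 _ _ hYd g5
      rw [g2z, zero_smul, zero_add] at hg
      have g3z := sc0 _ _ hYd hg
      obtain ⟨i, hi⟩ := hne
      apply hi
      fin_cases i <;> assumption
    · exfalso
      obtain ⟨g, hg, hne⟩ := dep ![s, X s, D s, X (D s), Y s] (by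
        intro i; fin_cases i <;> assumption)
      rw [Fin.sum_univ_five] at hg
      simp only [Matrix.cons_val_zero, Matrix.cons_val_one, Matrix.cons_val_two, Matrix.cons_val_three,
        Matrix.cons_val_four, Matrix.head_cons, Matrix.tail_cons, Matrix.cons_val] at hg
      -- `Y s = α s + β a + γ d + δ X d`
      have hg4 : g 4 ≠ 0 := by
        intro h4
        rw [h4, zero_smul, add_zero] at hg
        have g1 := congrArg D hg
        simp only [map_add, map_smul, map_zero, DD, DY, DX, smul_zero, add_zero] at g1
        have g2 := congrArg X g1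
        simp only [map_add, map_smul, map_zero, XDD, smul_zero, add_zero] at g2
        have g0z := sc0 _ _ hXd g2
        rw [g0z, zero_smul, zero_add] at g1
        have g1z := sc0 _ _ hXd g1
        rw [g0z, g1z, zero_smul, zero_smul, zero_add, zero_add] at hg
        have g5 := congrArg X hg
        simp only [map_add, map_smul, map_zero, XDD, smul_zero, add_zero] at g5
        have g2z := sc0 _ _ hXd g5
        rw [g2z, zero_smul, zero_add] at hg
        have g3z := sc0 _ _ hXd hg
        obtain ⟨i, hi⟩ := hne
        apply hi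
        fin_cases i <;> assumption
      obtain ⟨α, β, γ, δ, hb⟩ : ∃ α β γ δ : k, Y s = α • s + β • X s + γ • D s + δ • X (D s) := by
        refine ⟨(g 4)⁻¹ * g 0, (g 4)⁻¹ * g 1, (g 4)⁻¹ * g 2, (g 4)⁻¹ * g 3, ?_⟩
        have h5 := congrArg (fun x => (g 4)⁻¹ • x) hg
        simp only [smul_add, smul_smul, smul_zero, inv_mul_cancel₀ hg4, one_smul] at h5
        rw [add_comm, add_eq_zero_iff_eq_neg, hneg] at h5
        exact h5
      have hYd : Y (D s) = α • D s + β • X (D s) := by
        have h6 := congrArg D hb
        simpa only [map_add, map_smul, map_zero, DD, DY, DX, smul_zero, add_zero] using h6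
      have hXYd : X (Y (D s)) = α • X (D s) := by
        rw [hYd]; simp only [map_add, map_smul, XDD, smul_zero, add_zero]
      have hα : α = 0 := by
        have h6 := congrArg Y hYd
        rw [YDD] at h6
        simp only [map_add, map_smul] at h6
        rw [YXD, hXYd, hYd] at h6
        have h7 := congrArg X h6.symm
        simp only [map_add, map_smul, map_zero, XDD, smul_zero, add_zero, smul_add] at h7
        rw [smul_smul] at h7
        have h8 := sc0 _ _ hXd h7
        simpa using h8
      subst hα
      simp only [zero_smul, zero_add] at hb hYd hXYd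
      have hXb : X (Y s) = β • D s + γ • X (D s) := by
        rw [hb]; simp only [map_add, map_smul, XX, DD, smul_zero, add_zero]
      have hYa : Y (X s) = (β + 1) • D s + (γ + 1 + β) • X (D s) := by
        rw [YX s, hXb, hYd]
        simp only [map_smul, XDD, smul_zero, add_zero]
        module
      have hYb : D s = (β * (β + 1)) • D s + (β * (γ + 1 + β) + γ * β) • X (D s) := by
        have h6 := congrArg Y hb
        rw [YY] at h6
        simp only [map_add, map_smul] at h6
        rw [hYa, YXD, hXYd, hYd] at h6
        refine h6.trans ?_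
        module
      have h7 := congrArg X hYb
      simp only [map_add, map_smul, XDD, smul_zero, add_zero] at h7
      have h8 : (1 - β * (β + 1)) • X (D s) = 0 := by
        rw [sub_smul, one_smul, ← h7, sub_self]
      have h9 := sc0 _ _ hXd h8
      have h10 : β * (β + 1) = 1 := by linear_combination -h9
      rw [h10, one_smul] at hYb
      have h11 : (β * (γ + 1 + β) + γ * β) • X (D s) = 0 := by
        have := hYb.symm
        rwa [add_eq_left] at this
      have h12 := sc0 _ _ hXd h11
      have h13 : (2 : k) = 0 := CharTwo.two_eq_zero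
      have h14 : (1 : k) = 0 := by linear_combination h12 - h10 - γ * β * h13
      exact one_ne_zero h14
  obtain ⟨hXd, hYd⟩ := hXY
  have Id : I (Z s + s) = Z s + s := by
    rw [← D0]
    have := hXd
    rw [X0, add_eq_zero_iff_eq_neg, hneg] at this
    exact this
  have Jd : J (Z s + s) = Z s + s := by
    rw [← D0]
    have := hYd
    rw [Y0, add_eq_zero_iff_eq_neg, hneg] at this
    exact this
  refine ⟨Id, Jd, ?_, ?_⟩
  · rw [Fintype.linearIndependent_iff]
    intro g hg
    rw [Fin.sum_univ_three] at hg
    have hg' : g 0 • s + g 1 • D s + g 2 • X s = 0 := hg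
    have g1 := congrArg D hg'
    simp only [map_add, map_smul, map_zero, DD, DX, hXd, smul_zero, add_zero] at g1
    have g0z := sc0 _ _ hd0 g1
    rw [g0z, zero_smul, zero_add] at hg'
    have g2 := congrArg X hg'
    simp only [map_add, map_smul, map_zero, hXd, smul_zero, zero_add, XX] at g2
    have g2z := sc0 _ _ hd0 g2
    rw [g2z, zero_smul, add_zero] at hg'
    have g1z := sc0 _ _ hd0 hg'
    intro i
    fin_cases i <;> assumption
  · -- `e = μ d`
    have hμ : ∃ μ : k, X (Y s) = μ • D s := by
      obtain ⟨g, hg, hne⟩ := dep ![s, X s, Y s, X (Y s), D s] (by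
        intro i; fin_cases i <;> assumption)
      rw [Fin.sum_univ_five] at hg
      simp only [Matrix.cons_val_zero, Matrix.cons_val_one, Matrix.cons_val_two, Matrix.cons_val_three,
        Matrix.cons_val_four, Matrix.head_cons, Matrix.tail_cons, Matrix.cons_val] at hg
      have g1 := congrArg D hg
      simp only [map_add, map_smul, map_zero, DD, DX, DY, hXd, hYd, smul_zero, add_zero] at g1
      have g0z := sc0 _ _ hd0 g1
      rw [g0z, zero_smul, zero_add] at hg
      have g2 := congrArg X hg
      simp only [map_add, map_smul, map_zero, hXd, smul_zero, add_zero, XX, ← DY, hYd] at g2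
      rw [DY, hYd, smul_zero, add_zero] at g2
      -- `g1 • d + g2 • e = 0`
      by_cases h2 : g 2 = 0
      · rw [h2, zero_smul, add_zero] at g2
        have g1z := sc0 _ _ hd0 g2
        rw [g1z, h2, zero_smul, zero_smul, zero_add, zero_add] at hg
        by_cases h3 : g 3 = 0
        · rw [h3, zero_smul, zero_add] at hg
          have g4z := sc0 _ _ hd0 hg
          exfalso
          obtain ⟨i, hi⟩ := hne
          apply hi
          fin_cases i <;> assumption
        · refine ⟨(g 3)⁻¹ * g 4, ?_⟩
          have h5 := congrArg (fun x => (g 3)⁻¹ • x) hg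
          simp only [smul_add, smul_smul, smul_zero, inv_mul_cancel₀ h3, one_smul] at h5
          rw [add_eq_zero_iff_eq_neg, hneg] at h5
          exact h5
      · refine ⟨(g 2)⁻¹ * g 1, ?_⟩
        have h5 := congrArg (fun x => (g 2)⁻¹ • x) g2
        simp only [smul_add, smul_smul, smul_zero, inv_mul_cancel₀ h2, one_smul] at h5
        rw [add_comm, add_eq_zero_iff_eq_neg, hneg] at h5
        exact h5
    obtain ⟨μ, hμ⟩ := hμ
    by_cases h0 : μ = 0
    · right
      -- `d = s + ZIs + ZJs + ZIJs`
      rw [h0, zero_smul] at hμ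
      have e3 : X (Y s) = I (J s) + I s + J s + s := by
        rw [X0, Y0, map_add]; abel
      rw [e3] at hμ
      have e7 : Z s + s = s + Z (I s) + Z (J s) + Z (I (J s)) := by
        have e8 := congrArg Z hμ
        simp only [map_add, map_zero] at e8
        have e9 : Z s = Z (I (J s)) + Z (I s) + Z (J s) := by
          have := add_eq_zero_iff_eq_neg.1 e8
          rw [hneg] at this
          exact this.symm
        rw [e9]
        abel
      rw [e7]
      refine Submodule.add_mem _ (Submodule.add_mem _ (Submodule.add_mem _ ?_ ?_) ?_) ?_ <;>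
        exact Submodule.subset_span (by simp)
    · left
      have e3 : X (Y s) = I (J s) + I s + J s + s := by
        rw [X0, Y0, map_add]; abel
      have e4 : Z s + s = μ⁻¹ • (I (J s) + I s + J s + s) := by
        rw [← e3, hμ, smul_smul, inv_mul_cancel₀ h0, one_smul, D0]
      rw [e4]
      refine Submodule.smul_mem _ _ (Submodule.add_mem _ (Submodule.add_mem _ (Submodule.add_mem _ ?_ ?_) ?_) ?_) <;>
        exact Submodule.subset_span (by simp)

end

end Cfsg.Agent.H434.L34
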