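import Mathlib

/-!
# S5917 (`L₃(4)` in `E₈(2)`), type D: triality and `Q₈` in characteristic 2 (helper434)
-/

set_option autoImplicit false

namespace Cfsg.Agent.H434.L34

open Module

/-- triality data: three spaces with products and forms -/
structure Tri (k A B C : Type*) [Field k] [AddCommGroup A] [AddCommGroup B] [AddCommGroup C]
    [Module k A] [Module k B] [Module k C] where
  ab : A →ₗ[k] B →ₗ[k] C
  bc : B →ₗ[k] C →ₗ[k] A
  ca : C →ₗ[k] A →ₗ[k] B
  qa : A → k
  qb : B → k
  qc : C → k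
  fa : A →ₗ[k] A →ₗ[k] k
  fb : B →ₗ[k] B →ₗ[k] k
  fc : C →ₗ[k] C →ₗ[k] k
  qa_add : ∀ x y, qa (x + y) = qa x + qa y + fa x y
  qb_add : ∀ x y, qb (x + y) = qb x + qb y + fb x y
  qc_add : ∀ x y, qc (x + y) = qc x + qc y + fc x y
  fa_nd : ∀ x, (∀ y, fa x y = 0) → x = 0
  fb_nd : ∀ x, (∀ y, fb x y = 0) → x = 0
  fc_nd : ∀ x, (∀ y, fc x y = 0) → x = 0
  a_b : ∀ x y, ca (ab x y) x = qa x • y
  a_c : ∀ x c, ab x (ca c x) = qa x • c
  b_a : ∀ y x, bc y (ab x y) = qb y • x
  b_c : ∀ y c, ab (bc y c) y = qb y • c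
  c_b : ∀ c y, ca c (bc y c) = qc c • y
  c_a : ∀ c x, bc (ca c x) c = qc c • x

section
variable {k A B C : Type*} [Field k] [AddCommGroup A] [AddCommGroup B] [AddCommGroup C]
    [Module k A] [Module k B] [Module k C]

/-- rotation -/
def Tri.rot (T : Tri k A B C) : Tri k B C A where
  ab := T.bc
  bc := T.ca
  ca := T.ab
  qa := T.qb
  qb := T.qc
  qc := T.qa
  fa := T.fb
  fb := T.fc
  fc := T.fa
  qa_add := T.qb_add
  qb_add := T.qc_add
  qc_add := T.qa_add
  fa_nd := T.fb_nd
  fb_nd := T.fc_nd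
  fc_nd := T.fa_nd
  a_b := T.b_c
  a_c := T.b_a
  b_a := T.c_b
  b_c := T.c_a
  c_b := T.a_c
  c_a := T.a_b

theorem Tri.fa_symm (T : Tri k A B C) (x y : A) : T.fa x y = T.fa y x := by
  have h1 := T.qa_add x y
  have h2 := T.qa_add y x
  rw [add_comm y x, h1] at h2
  linear_combination h2

theorem Tri.a_b_pol (T : Tri k A B C) (x x' : A) (y : B) :
    T.ca (T.ab x y) x' + T.ca (T.ab x' y) x = T.fa x x' • y := by
  have h := T.a_b (x + x') y
  rw [T.qa_add] at h
  simp only [map_add, LinearMap.add_apply, add_smul, T.a_b] at h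
  have h2 : T.ca (T.ab x y) x' + T.ca (T.ab x' y) x =
      (T.qa x • y + T.ca (T.ab x' y) x + (T.ca (T.ab x y) x' + T.qa x' • y)) - (T.qa x • y + T.qa x' • y) := by abel
  rw [h2, h]
  abel

theorem Tri.a_c_pol (T : Tri k A B C) (x x' : A) (c : C) :
    T.ab x (T.ca c x') + T.ab x' (T.ca c x) = T.fa x x' • c := by
  have h := T.a_c (x + x') c
  rw [T.qa_add] at h
  simp only [map_add, LinearMap.add_apply, add_smul, T.a_c] at h
  have h2 : T.ab x (T.ca c x') + T.ab x' (T.ca c x) =
      (T.qa x • c + T.ab x' (T.ca c x) + (T.ab x (T.ca c x') + T.qa x' • c)) - (T.qa x • c + T.qa x' • c) := by abel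
  rw [h2, h]
  abel

/-- doubling -/
theorem finrank_double {V : Type*} [AddCommGroup V] [Module k V] [FiniteDimensional k V] (S : Submodule k V)
    (a a' : V →ₗ[k] V) (h0 : ∀ p ∈ S, a p = 0) (h1 : ∀ p ∈ S, a (a' p) = p) :
    2 * finrank k S = finrank k ↥(S ⊔ S.map a') := by
  have hd : Disjoint S (S.map a') := by
    rw [Submodule.disjoint_def]
    rintro x hx ⟨p, hp, rfl⟩
    have h2 := h1 p hp
    rw [h0 _ hx] at h2
    rw [← h2, map_zero]
  have h3 := Submodule.finrank_sup_add_finrank_inf_eq S (S.map a')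
  rw [hd.eq_bot, finrank_bot, add_zero] at h3
  have h4 : finrank k ↥(S.map a') = finrank k S := by
    have hinj : Function.Injective (a'.domRestrict S) := by
      intro p p' hpp
      have h5 : a' p = a' p' := hpp
      apply Subtype.ext
      rw [← h1 p p.2, ← h1 p' p'.2, h5]
    have h6 := LinearMap.finrank_range_of_inj hinj
    rw [← h6, LinearMap.range_domRestrict]
  omega

variable [FiniteDimensional k A] [FiniteDimensional k B] [FiniteDimensional k C]

/-- dual vectors -/
theorem Tri.exists_dual (T : Tri k A B C) {n : ℕ} {x : Fin n → A} (hx : LinearIndependent k x) (t : Fin n → k) :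
    ∃ z : A, ∀ i, T.fa (x i) z = t i := by
  let φ : A →ₗ[k] (Fin n → k) := LinearMap.pi fun i => T.fa (x i)
  have hs : LinearMap.range φ = ⊤ := by
    by_contra hne
    obtain ⟨f, hf, hle⟩ := Submodule.exists_le_ker_of_lt_top (LinearMap.range φ) (lt_top_iff_ne_top.2 hne)
    apply hf
    have h1 : ∀ z, f (φ z) = 0 := fun z => hle ⟨z, rfl⟩
    have h2 : ∀ z, T.fa (∑ i, f (Pi.single i 1) • x i) z = 0 := by
      intro z
      rw [map_sum, LinearMap.sum_apply, ← h1 z]
      conv_rhs => rw [LinearMap.pi_apply_eq_sum_univ f (φ z)]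
      refine Finset.sum_congr rfl fun i _ => ?_
      rw [map_smul, LinearMap.smul_apply, smul_eq_mul, smul_eq_mul, mul_comm]
      congr 1
      congr 1
      funext j
      by_cases hij : i = j
      · subst hij; simp
      · simp [hij, Pi.single_apply, Ne.symm hij, eq_comm]
    have h3 := T.fa_nd _ h2
    rw [Fintype.linearIndependent_iff] at hx
    have h4 := hx _ h3
    apply LinearMap.pi_ext'
    intro i
    apply LinearMap.ext_ring
    simpa using h4 i
  have h5 : t ∈ LinearMap.range φ := by rw [hs]; trivial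
  obtain ⟨z, hz⟩ := h5
  exact ⟨z, fun i => by rw [← hz]; rfl⟩

/-- totally isotropic subspaces have dimension at most half -/
theorem Tri.finrank_le (T : Tri k A B C) (W : Submodule k A) (hW : ∀ x ∈ W, ∀ y ∈ W, T.fa x y = 0) :
    2 * finrank k W ≤ finrank k A := by
  let φ : A →ₗ[k] (Dual k W) := (LinearMap.lcomp k k W.subtype).comp T.fa
  have h1 : Function.Injective (T.fa) := by
    rw [← LinearMap.ker_eq_bot, LinearMap.ker_eq_bot']
    intro x hx
    exact T.fa_nd x fun y => by rw [hx]; rfl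
  have h2 : finrank k (Dual k A) = finrank k A := Subspace.dual_finrank_eq
  have h3 : Function.Surjective T.fa := (LinearMap.injective_iff_surjective_of_finrank_eq_finrank h2.symm).1 h1
  have h4 : Function.Surjective (LinearMap.lcomp k k W.subtype) := by
    intro f
    obtain ⟨g, hg⟩ := LinearMap.exists_extend f
    exact ⟨g, hg⟩
  have h5 : Function.Surjective φ := h4.comp h3
  have h6 := LinearMap.finrank_range_add_finrank_ker φ
  rw [LinearMap.range_eq_top.2 h5, finrank_top, Subspace.dual_finrank_eq] at h6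
  have h7 : W ≤ LinearMap.ker φ := by
    intro x hx
    rw [LinearMap.mem_ker]
    ext y
    exact hW x hx y y.2
  have h8 := Submodule.finrank_mono h7
  omega

/-- the operator of `x` on `B × C` -/
def Tri.op (T : Tri k A B C) (x : A) : (B × C) →ₗ[k] (B × C) :=
  (((T.ca.flip x).comp (LinearMap.snd k B C)).prod ((T.ab x).comp (LinearMap.fst k B C)))

omit [FiniteDimensional k A] [FiniteDimensional k B] [FiniteDimensional k C] in
theorem Tri.op_apply (T : Tri k A B C) (x : A) (p : B × C) : T.op x p = (T.ca p.2 x, T.ab x p.1) := rfl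

omit [FiniteDimensional k A] [FiniteDimensional k B] [FiniteDimensional k C] in
theorem Tri.op_pol (T : Tri k A B C) (x x' : A) (p : B × C) : T.op x (T.op x' p) + T.op x' (T.op x p) = T.fa x x' • p := by
  rw [T.op_apply, T.op_apply, T.op_apply, T.op_apply]
  ext
  · show T.ca (T.ab x' p.1) x + T.ca (T.ab x p.1) x' = T.fa x x' • p.1
    rw [add_comm, T.a_b_pol]
  · show T.ab x (T.ca p.2 x') + T.ab x' (T.ca p.2 x) = T.fa x x' • p.2
    rw [T.a_c_pol]

/-- **three independent vectors do not annihilate two independent ones** -/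
theorem Tri.t6 (T : Tri k A B C) (hA : finrank k A = 8) (hB : finrank k B = 8) (hC : finrank k C = 8)
    {x : Fin 3 → A} (hx : LinearIndependent k x) {y1 y2 : B} (hy : LinearIndependent k ![y1, y2])
    (h1 : ∀ i, T.ab (x i) y1 = 0) (h2 : ∀ i, T.ab (x i) y2 = 0) : False := by
  classical
  -- dual vectors
  choose z hz using fun j : Fin 3 => T.exists_dual hx (Pi.single j 1)
  let N : Submodule k (B × C) := ⨅ i, LinearMap.ker (T.op (x i))
  have hN : ∀ p, p ∈ N ↔ ∀ i, T.op (x i) p = 0 := by
    intro p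
    simp [N, Submodule.mem_iInf]
  have key : ∀ i j, ∀ p, T.op (x i) p = 0 → T.op (x i) (T.op (z j) p) = (Pi.single j (1 : k) : Fin 3 → k) i • p := by
    intro i j p hp
    have h3 := T.op_pol (x i) (z j) p
    rw [hp, map_zero, add_zero, hz] at h3
    exact h3
  let S1 := N ⊔ N.map (T.op (z 0))
  let S2 := S1 ⊔ S1.map (T.op (z 1))
  let S3 := S2 ⊔ S2.map (T.op (z 2))
  have hN0 : ∀ i, ∀ p ∈ N, T.op (x i) p = 0 := fun i p hp => (hN p).1 hp i
  have hS1 : ∀ i : Fin 3, i ≠ 0 → ∀ p ∈ S1, T.op (x i) p = 0 := by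
    intro i hi p hp
    obtain ⟨p1, hp1, p2, ⟨p3, hp3, rfl⟩, rfl⟩ := Submodule.mem_sup.1 hp
    rw [map_add, hN0 i p1 hp1, key i 0 p3 (hN0 i p3 hp3)]
    simp [hi]
  have hS2 : ∀ i : Fin 3, i ≠ 0 → i ≠ 1 → ∀ p ∈ S2, T.op (x i) p = 0 := by
    intro i hi hi1 p hp
    obtain ⟨p1, hp1, p2, ⟨p3, hp3, rfl⟩, rfl⟩ := Submodule.mem_sup.1 hp
    rw [map_add, hS1 i hi p1 hp1, key i 1 p3 (hS1 i hi p3 hp3)]
    simp [hi1]
  have e1 := finrank_double N (T.op (x 0)) (T.op (z 0)) (hN0 0) (fun p hp => by rw [key 0 0 p (hN0 0 p hp)]; simp)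
  have e2 := finrank_double S1 (T.op (x 1)) (T.op (z 1)) (hS1 1 (by decide))
    (fun p hp => by rw [key 1 1 p (hS1 1 (by decide) p hp)]; simp)
  have e3 := finrank_double S2 (T.op (x 2)) (T.op (z 2)) (hS2 2 (by decide) (by decide))
    (fun p hp => by rw [key 2 2 p (hS2 2 (by decide) (by decide) p hp)]; simp)
  have e4 : finrank k ↥(S2 ⊔ S2.map (T.op (z 2))) ≤ finrank k (B × C) := Submodule.finrank_le _
  rw [Module.finrank_prod, hB, hC] at e4
  have e5 : finrank k N ≤ 2 := by
    have : finrank k ↥S1 = 2 * finrank k N := e1.symm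
    have : finrank k ↥S2 = 2 * finrank k ↥S1 := e2.symm
    omega
  -- a nonsingular vector orthogonal to the `x i`
  obtain ⟨e, he, hqe⟩ : ∃ e, (∀ i, T.fa (x i) e = 0) ∧ T.qa e ≠ 0 := by
    by_contra hcon
    push Not at hcon
    let W : Submodule k A := ⨅ i, LinearMap.ker (T.fa (x i))
    have hW : ∀ p, p ∈ W ↔ ∀ i, T.fa (x i) p = 0 := by
      intro p
      simp [W, Submodule.mem_iInf]
    have hW2 := T.finrank_le W (by
      intro p hp p' hp'
      have h3 := T.qa_add p p'
      rw [hcon p ((hW p).1 hp), hcon p' ((hW p').1 hp'), hcon (p + p') ((hW _).1 (W.add_mem hp hp'))] at h3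
      simpa using h3.symm)
    have hW3 : finrank k A ≤ finrank k W + 3 := by
      let φ : A →ₗ[k] (Fin 3 → k) := LinearMap.pi fun i => T.fa (x i)
      have h6 := LinearMap.finrank_range_add_finrank_ker φ
      have h7 : LinearMap.ker φ = W := by
        ext p
        rw [LinearMap.mem_ker, hW]
        constructor
        · intro h i
          exact congrFun h i
        · intro h
          funext i
          exact h i
      rw [h7] at h6
      have h8 : finrank k (LinearMap.range φ) ≤ 3 := by
        have := Submodule.finrank_le (LinearMap.range φ)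
        simpa using this
      omega
    omega
  -- four independent vectors
  have hinj : ∀ y, T.ab e y = 0 → y = 0 := by
    intro y hy0
    have h3 := T.a_b e y
    rw [hy0, map_zero, LinearMap.zero_apply] at h3
    exact ((smul_eq_zero.1 h3.symm).resolve_left hqe)
  have hm : ∀ y, (∀ i, T.ab (x i) y = 0) → ((y, 0) : B × C) ∈ N ∧ ((0, T.ab e y) : B × C) ∈ N := by
    intro y hy0
    constructor
    · rw [hN]
      intro i
      rw [T.op_apply]
      simp [hy0 i]
    · rw [hN]
      intro i
      rw [T.op_apply]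
      have h3 := T.a_b_pol (x i) e y
      rw [hy0 i, map_zero, LinearMap.zero_apply, zero_add, he i, zero_smul] at h3
      simp [h3]
  have hli : LinearIndependent k (![(⟨_, (hm y1 h1).1⟩ : N), ⟨_, (hm y2 h2).1⟩, ⟨_, (hm y1 h1).2⟩]) := by
    rw [Fintype.linearIndependent_iff]
    intro g hg
    rw [Fin.sum_univ_three] at hg
    have hg' := congrArg (Subtype.val) hg
    simp only [Matrix.cons_val_zero, Matrix.cons_val_one, Matrix.cons_val_two, Matrix.head_cons, Matrix.tail_cons,
      Submodule.coe_add, Submodule.coe_smul, Submodule.coe_zero, Matrix.cons_val] at hg'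
    have hga := congrArg Prod.fst hg'
    have hgb := congrArg Prod.snd hg'
    simp only [Prod.fst_add, Prod.snd_add, Prod.smul_fst, Prod.smul_snd, smul_zero, add_zero, Prod.fst_zero, zero_add,
      Prod.snd_zero] at hga hgb
    rw [Fintype.linearIndependent_iff] at hy
    have h3 := hy ![g 0, g 1] (by rw [Fin.sum_univ_two]; simpa using hga)
    have h4 := h3 0
    have h5 := h3 1
    have hy1 : y1 ≠ 0 := by
      intro h0
      have := hy ![1, 0] (by rw [Fin.sum_univ_two]; simp [h0]) 0
      simp at this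
    have h6 : g 2 = 0 := by
      rw [← map_smul] at hgb
      have h7 := hinj _ hgb
      exact (smul_eq_zero.1 h7).resolve_right hy1
    intro i
    fin_cases i
    · simpa using h4
    · simpa using h5
    · simpa using h6
  have h9 := hli.fintype_card_le_finrank
  simp at h9
  omega

end

end Cfsg.Agent.H434.L34
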